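import Mathlib.LinearAlgebra.FiniteDimensional.Basic
import Mathlib.LinearAlgebra.Dimension.Constructions
import Mathlib.Algebra.Field.ZMod
import Mathlib.Data.Matrix.Basic
import Mathlib.LinearAlgebra.Matrix.DotProduct
import Mathlib.Tactic.FieldSimp
import Mathlib.Tactic.LinearCombination

/-!
Weight spaces of an elementary abelian `3`-group acting on a module over a field with a primitive
cube root of unity.
-/

set_option autoImplicit false

namespace CfsgLib.E8Alt41

variable {F : Type*} [Field F]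

/-- A primitive cube root of unity. -/
structure CubeRoot (F : Type*) [Field F] where
  /-- the root -/
  w : F
  /-- its equation -/
  eqn : w ^ 2 + w + 1 = 0
  /-- the characteristic is not three -/
  three : (3 : F) ≠ 0

namespace CubeRoot

variable (R : CubeRoot F)

theorem cube : R.w ^ 3 = 1 := by linear_combination (R.w - 1) * R.eqn

theorem ne_one : R.w ≠ 1 := by
  intro h
  have := R.eqn
  rw [h] at this
  exact R.three (by linear_combination this)

/-- The additive character `x ↦ w ^ x`. -/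
def ch (x : ZMod 3) : F := R.w ^ x.val

theorem ch_zero : R.ch 0 = 1 := by simp [ch]

theorem ch_add (x y : ZMod 3) : R.ch (x + y) = R.ch x * R.ch y := by
  rw [ch, ch, ch, ← pow_add, ZMod.val_add, ← pow_eq_pow_mod _ R.cube]

theorem ch_one : R.ch 1 = R.w := by simp [ch, ZMod.val_one]

theorem ch_eq_one {x : ZMod 3} (h : R.ch x = 1) : x = 0 := by
  fin_cases x
  · rfl
  · exact absurd (R.ch_one.symm.trans h) R.ne_one
  · exfalso
    have h' : R.w ^ 2 = 1 := h
    exact R.ne_one (by linear_combination R.cube - R.w * h')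

theorem ch_sum {n : ℕ} (χ : Fin n → ZMod 3) (hχ : χ ≠ 0) :
    ∑ a : Fin n → ZMod 3, R.ch (χ ⬝ᵥ a) = 0 := by
  obtain ⟨i, hi⟩ := Function.ne_iff.mp hχ
  set S := ∑ a : Fin n → ZMod 3, R.ch (χ ⬝ᵥ a)
  have h : R.ch (χ i) * S = S := by
    rw [Finset.mul_sum]
    refine Fintype.sum_equiv (Equiv.addRight (Pi.single i 1)) _ _ fun a => ?_
    rw [Equiv.coe_addRight, dotProduct_add, R.ch_add, dotProduct_single, mul_one]
    exact mul_comm _ _
  by_contra hS
  exact hi (R.ch_eq_one ((mul_eq_right₀ hS).mp h))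

end CubeRoot

variable {n : ℕ} {V : Type*} [AddCommGroup V] [Module F V]
  (R : CubeRoot F) (T : Multiplicative (Fin n → ZMod 3) →* Module.End F V)

/-- The projection to the weight space of `χ`. -/
noncomputable def proj (χ : Fin n → ZMod 3) : Module.End F V :=
  ((3 : F) ^ n)⁻¹ • ∑ a : Fin n → ZMod 3, R.ch (-(χ ⬝ᵥ a)) • T (Multiplicative.ofAdd a)

theorem mul_proj (χ a : Fin n → ZMod 3) :
    T (Multiplicative.ofAdd a) * proj R T χ = R.ch (χ ⬝ᵥ a) • proj R T χ := by
  rw [proj, mul_smul_comm, smul_comm (R.ch (χ ⬝ᵥ a))]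
  congr 1
  rw [Finset.mul_sum, Finset.smul_sum]
  conv_rhs => rw [← Equiv.sum_comp (Equiv.addLeft a)]
  refine Finset.sum_congr rfl fun b _ => ?_
  rw [Equiv.coe_addLeft, mul_smul_comm, smul_smul, ← map_mul, ← ofAdd_add, ← R.ch_add,
    dotProduct_add]
  congr 2
  ring

theorem proj_mul (χ χ' : Fin n → ZMod 3) :
    proj R T χ * proj R T χ' = if χ = χ' then proj R T χ' else 0 := by
  conv_lhs => arg 1; rw [proj]
  rw [smul_mul_assoc, Finset.sum_mul]
  simp only [smul_mul_assoc, mul_proj, smul_smul, ← R.ch_add]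
  rw [← Finset.sum_smul, smul_smul]
  have e : ∀ a, -(χ ⬝ᵥ a) + χ' ⬝ᵥ a = (χ' - χ) ⬝ᵥ a := fun a => by rw [sub_dotProduct]; ring
  simp only [e]
  split_ifs with h
  · subst h
    simp only [sub_self, zero_dotProduct, R.ch_zero, Finset.sum_const, Finset.card_univ,
      Fintype.card_fun, ZMod.card, Fintype.card_fin, nsmul_eq_mul, mul_one, Nat.cast_pow,
      Nat.cast_ofNat]
    rw [inv_mul_cancel₀ (pow_ne_zero n R.three), one_smul]
  · rw [R.ch_sum _ (sub_ne_zero.mpr (Ne.symm h)), mul_zero, zero_smul]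

theorem sum_proj : ∑ χ, proj R T χ = 1 := by
  have h : ∀ a : Fin n → ZMod 3, ∑ χ : Fin n → ZMod 3, R.ch (-(χ ⬝ᵥ a)) =
      if a = 0 then (3 : F) ^ n else 0 := by
    intro a
    split_ifs with ha
    · subst ha
      simp [R.ch_zero]
    · rw [show (∑ χ : Fin n → ZMod 3, R.ch (-(χ ⬝ᵥ a))) = ∑ χ, R.ch ((-a) ⬝ᵥ χ) from
        Finset.sum_congr rfl fun χ _ => by rw [neg_dotProduct, dotProduct_comm]]
      exact R.ch_sum _ (neg_ne_zero.mpr ha)
  simp only [proj]
  rw [← Finset.smul_sum, Finset.sum_comm]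
  simp only [← Finset.sum_smul, h, ite_smul, zero_smul, Finset.sum_ite_eq', Finset.mem_univ,
    if_true, ofAdd_zero, map_one, smul_smul, inv_mul_cancel₀ (pow_ne_zero n R.three), one_smul]

/-- The weight space of `χ`. -/
noncomputable def wsp (χ : Fin n → ZMod 3) : Submodule F V := LinearMap.range (proj R T χ)

theorem proj_apply_proj (χ χ' : Fin n → ZMod 3) (v : V) :
    proj R T χ (proj R T χ' v) = if χ = χ' then proj R T χ' v else 0 := by
  rw [← Module.End.mul_apply, proj_mul]
  split_ifs <;> simp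

theorem proj_of_mem {χ χ' : Fin n → ZMod 3} {v : V} (hv : v ∈ wsp R T χ') :
    proj R T χ v = if χ = χ' then v else 0 := by
  obtain ⟨u, rfl⟩ := hv
  exact proj_apply_proj R T χ χ' u

theorem apply_of_mem {χ : Fin n → ZMod 3} {v : V} (hv : v ∈ wsp R T χ) (a : Fin n → ZMod 3) :
    T (Multiplicative.ofAdd a) v = R.ch (χ ⬝ᵥ a) • v := by
  obtain ⟨u, rfl⟩ := hv
  rw [← Module.End.mul_apply, mul_proj, LinearMap.smul_apply]

/-- The sum of a family of weight vectors. -/
noncomputable def glue (s : Finset (Fin n → ZMod 3)) : (Π χ : ↥s, ↥(wsp R T χ.1)) →ₗ[F] V :=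
  ∑ χ : ↥s, (wsp R T χ.1).subtype.comp (LinearMap.proj χ)

theorem glue_apply (s : Finset (Fin n → ZMod 3)) (f : Π χ : ↥s, ↥(wsp R T χ.1)) :
    glue R T s f = ∑ χ : ↥s, (f χ : V) := by simp [glue]

theorem proj_glue (s : Finset (Fin n → ZMod 3)) (f : Π χ : ↥s, ↥(wsp R T χ.1)) (χ : ↥s) :
    proj R T χ.1 (glue R T s f) = f χ := by
  rw [glue_apply, map_sum, Finset.sum_eq_single χ]
  · rw [proj_of_mem R T (f χ).2, if_pos rfl]
  · intro χ' _ hne
    rw [proj_of_mem R T (f χ').2, if_neg fun h => hne (Subtype.ext h).symm]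
  · simp

theorem glue_injective (s : Finset (Fin n → ZMod 3)) : Function.Injective (glue R T s) :=
  fun f g h => funext fun χ => Subtype.ext (by rw [← proj_glue R T s f χ, h, proj_glue])

theorem finrank_pi_wsp [FiniteDimensional F V] (s : Finset (Fin n → ZMod 3)) :
    Module.finrank F (Π χ : ↥s, ↥(wsp R T χ.1)) = ∑ χ ∈ s, Module.finrank F ↥(wsp R T χ) := by
  rw [Module.finrank_pi_fintype, Finset.sum_coe_sort s fun χ => Module.finrank F ↥(wsp R T χ)]

theorem finrank_total [FiniteDimensional F V] :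
    Module.finrank F V = ∑ χ, Module.finrank F ↥(wsp R T χ) := by
  rw [← finrank_pi_wsp R T Finset.univ]
  refine (LinearEquiv.finrank_eq (LinearEquiv.ofBijective (glue R T Finset.univ)
    ⟨glue_injective R T _, fun v => ?_⟩)).symm
  refine ⟨fun χ => ⟨proj R T χ.1 v, LinearMap.mem_range_self _ _⟩, ?_⟩
  rw [glue_apply]
  show ∑ χ : ↥(Finset.univ : Finset (Fin n → ZMod 3)), proj R T χ.1 v = v
  rw [Finset.sum_coe_sort Finset.univ fun χ => proj R T χ v, ← LinearMap.sum_apply, sum_proj,
    Module.End.one_apply]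

/-- The fixed space of an endomorphism. -/
def fixSp (Y : Module.End F V) : Submodule F V := LinearMap.ker (Y - 1)

theorem mem_fixSp {Y : Module.End F V} {v : V} : v ∈ fixSp Y ↔ Y v = v := by
  rw [fixSp, LinearMap.mem_ker, LinearMap.sub_apply, Module.End.one_apply, sub_eq_zero]

theorem finrank_fix [FiniteDimensional F V] (a : Fin n → ZMod 3) :
    Module.finrank F ↥(fixSp (T (Multiplicative.ofAdd a))) =
      ∑ χ ∈ Finset.univ.filter (fun χ => χ ⬝ᵥ a = 0), Module.finrank F ↥(wsp R T χ) := by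
  set s := Finset.univ.filter (fun χ : Fin n → ZMod 3 => χ ⬝ᵥ a = 0) with hs
  rw [← finrank_pi_wsp R T s, ← LinearMap.finrank_range_of_inj (glue_injective R T s)]
  suffices h : fixSp (T (Multiplicative.ofAdd a)) = LinearMap.range (glue R T s) by rw [h]
  refine le_antisymm (fun v hv => ?_) ?_
  · rw [mem_fixSp] at hv
    have h0 : ∀ χ ∉ s, proj R T χ v = 0 := by
      intro χ hχ
      have hcomm : proj R T χ * T (Multiplicative.ofAdd a) =
          T (Multiplicative.ofAdd a) * proj R T χ := by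
        rw [proj, smul_mul_assoc, mul_smul_comm, Finset.sum_mul, Finset.mul_sum]
        simp only [smul_mul_assoc, mul_smul_comm, ← map_mul, mul_comm]
      have h1 := LinearMap.congr_fun hcomm v
      rw [Module.End.mul_apply, hv, mul_proj, LinearMap.smul_apply] at h1
      by_contra hne
      have h2 : (R.ch (χ ⬝ᵥ a) - 1) • proj R T χ v = 0 := by rw [sub_smul, one_smul, ← h1, sub_self]
      refine hχ (Finset.mem_filter.mpr ⟨Finset.mem_univ _, R.ch_eq_one ?_⟩)
      exact sub_eq_zero.mp ((smul_eq_zero.mp h2).resolve_right hne)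
    refine ⟨fun χ => ⟨proj R T χ.1 v, LinearMap.mem_range_self _ _⟩, ?_⟩
    rw [glue_apply]
    show ∑ χ : ↥s, proj R T χ.1 v = v
    rw [Finset.sum_coe_sort s fun χ => proj R T χ v]
    conv_rhs => rw [← Module.End.one_apply (R := F) v, ← sum_proj R T, LinearMap.sum_apply]
    exact Finset.sum_subset (Finset.subset_univ _) fun χ _ hχ => h0 χ hχ
  · rintro _ ⟨f, rfl⟩
    rw [mem_fixSp, glue_apply, map_sum]
    refine Finset.sum_congr rfl fun χ _ => ?_
    rw [apply_of_mem R T (f χ).2, (Finset.mem_filter.mp χ.2).2, R.ch_zero, one_smul]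

end CfsgLib.E8Alt41
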